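import Mathlib.Combinatorics.SimpleGraph.StronglyRegular
import Mathlib.Combinatorics.Enumerative.DoubleCounting

/-!
A strongly regular graph (15, 6, 1, 3) has exactly six independent sets of size five, two through each
vertex and one through each pair of non-adjacent vertices.
-/

set_option autoImplicit false

namespace CfsgLib.Steiner.SRG77.Kneser

variable {X : Type*} [Fintype X] [DecidableEq X] {G : SimpleGraph X} [DecidableRel G.Adj]

/-- The neighbourhood. -/
def nb (G : SimpleGraph X) [DecidableRel G.Adj] (u : X) : Finset X :=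
  Finset.univ.filter fun v => G.Adj u v

theorem mem_nb {u v : X} : v ∈ nb G u ↔ G.Adj u v := by simp [nb]

/-- The common neighbours. -/
def cn (G : SimpleGraph X) [DecidableRel G.Adj] (u v : X) : Finset X := nb G u ∩ nb G v

theorem mem_cn {u v w : X} : w ∈ cn G u v ↔ G.Adj u w ∧ G.Adj v w := by simp [cn, mem_nb]

theorem card_nb (h : G.IsSRGWith 15 6 1 3) (u : X) : (nb G u).card = 6 := by
  rw [← h.regular u, ← SimpleGraph.card_neighborFinset_eq_degree]
  congr 1
  ext v
  simp [mem_nb]

theorem card_cn (h : G.IsSRGWith 15 6 1 3) {u v : X} (hne : u ≠ v) :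
    (cn G u v).card = if G.Adj u v then 1 else 3 := by
  have e : (cn G u v).card = Fintype.card (G.commonNeighbors u v) := by
    rw [← Set.toFinset_card]
    congr 1
    ext w
    rw [Set.mem_toFinset, mem_cn]
    exact Iff.rfl
  rw [e]
  by_cases ha : G.Adj u v
  · rw [if_pos ha, h.of_adj u v ha]
  · rw [if_neg ha, h.of_not_adj hne ha]

theorem third_unique (h : G.IsSRGWith 15 6 1 3) {u v w w' : X} (huv : G.Adj u v) (h1 : G.Adj u w)
    (h2 : G.Adj v w) (h1' : G.Adj u w') (h2' : G.Adj v w') : w = w' :=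
  Finset.card_le_one.1 (by rw [card_cn h huv.ne, if_pos huv]) w (mem_cn.2 ⟨h1, h2⟩) w'
    (mem_cn.2 ⟨h1', h2'⟩)

theorem exists_third (h : G.IsSRGWith 15 6 1 3) {u v : X} (huv : G.Adj u v) :
    ∃ w, G.Adj u w ∧ G.Adj v w := by
  obtain ⟨w, hw⟩ := Finset.card_eq_one.1 ((card_cn h huv.ne).trans (if_pos huv))
  exact ⟨w, mem_cn.1 (hw.ge (Finset.mem_singleton_self w))⟩

/-- The common neighbours of a non-adjacent pair are pairwise non-adjacent. -/
theorem cn_not_adj (h : G.IsSRGWith 15 6 1 3) {c d a b : X} (hne : c ≠ d) (ha : a ∈ cn G c d)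
    (hb : b ∈ cn G c d) : ¬ G.Adj a b := fun hab =>
  hne (third_unique h hab (mem_cn.1 ha).1.symm (mem_cn.1 hb).1.symm (mem_cn.1 ha).2.symm
    (mem_cn.1 hb).2.symm)

/-- The third edge point of an edge into the common neighbourhood lies outside the neighbourhood. -/
theorem third_out (h : G.IsSRGWith 15 6 1 3) {c d a m : X} (hne : c ≠ d) (hcd : ¬ G.Adj c d)
    (ha : a ∈ cn G c d) (hdm : G.Adj d m) (ham : G.Adj a m) : m ≠ c ∧ ¬ G.Adj c m := by
  obtain ⟨hca, hda⟩ := mem_cn.1 ha
  refine ⟨fun e => hcd (e ▸ hdm).symm, fun hcm => hne ?_⟩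
  exact third_unique h ham hca.symm hcm.symm hda.symm hdm.symm

/-- A non-adjacent pair lies in a triad with the same three common neighbours. -/
theorem exists_twin (h : G.IsSRGWith 15 6 1 3) {c d : X} (hne : c ≠ d) (hcd : ¬ G.Adj c d) :
    ∃ d', d' ≠ c ∧ d' ≠ d ∧ ¬ G.Adj c d' ∧ ∀ p ∈ cn G c d, G.Adj p d' := by
  obtain ⟨a, b, e, hab, hae, hbe, hT⟩ := Finset.card_eq_three.1 ((card_cn h hne).trans (if_neg hcd))
  have haT : a ∈ cn G c d := hT.ge (by simp)
  have hbT : b ∈ cn G c d := hT.ge (by simp)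
  have heT : e ∈ cn G c d := hT.ge (by simp)
  obtain ⟨hca, hda⟩ := mem_cn.1 haT
  obtain ⟨hcb, hdb⟩ := mem_cn.1 hbT
  obtain ⟨hce, hde⟩ := mem_cn.1 heT
  have nab := cn_not_adj h hne haT hbT
  have nae := cn_not_adj h hne haT heT
  have nbe := cn_not_adj h hne hbT heT
  have hc3 := (card_cn h hab).trans (if_neg nab)
  have hsub : ({c, d} : Finset X) ⊆ cn G a b := by
    intro w hw
    simp only [Finset.mem_insert, Finset.mem_singleton] at hw
    rcases hw with rfl | rfl
    · exact mem_cn.2 ⟨hca.symm, hcb.symm⟩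
    · exact mem_cn.2 ⟨hda.symm, hdb.symm⟩
  obtain ⟨d', hd'⟩ : ∃ d', cn G a b \ {c, d} = {d'} := Finset.card_eq_one.1 (by
    rw [Finset.card_sdiff_of_subset hsub, hc3, Finset.card_pair hne])
  have hmem := hd'.ge (Finset.mem_singleton_self d')
  simp only [Finset.mem_sdiff, Finset.mem_insert, Finset.mem_singleton, not_or, mem_cn] at hmem
  obtain ⟨⟨had', hbd'⟩, hd'c, hd'd⟩ := hmem
  have ncd' : ¬ G.Adj c d' := fun hh => hab (third_unique h hh hca had'.symm hcb hbd'.symm)
  refine ⟨d', hd'c, hd'd, ncd', ?_⟩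
  intro p hp
  rw [hT] at hp
  simp only [Finset.mem_insert, Finset.mem_singleton] at hp
  rcases hp with rfl | rfl | rfl
  · exact had'
  · exact hbd'
  by_contra nped'
  -- the other three neighbours of `c`
  obtain ⟨a2, hca2, haa2⟩ := exists_third h hca
  obtain ⟨b2, hcb2, hbb2⟩ := exists_third h hcb
  obtain ⟨e2, hce2, hee2⟩ := exists_third h hce
  have a2b : a2 ≠ b := fun x => nab (x ▸ haa2)
  have a2e : a2 ≠ p := fun x => nae (x ▸ haa2)
  have b2a : b2 ≠ a := fun x => nab (x ▸ hbb2).symm
  have b2e : b2 ≠ p := fun x => nbe (x ▸ hbb2)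
  have e2a : e2 ≠ a := fun x => nae (x ▸ hee2).symm
  have e2b : e2 ≠ b := fun x => nbe (x ▸ hee2).symm
  have a2b2 : a2 ≠ b2 := fun x => hab (third_unique h hca2 hca haa2.symm hcb (x ▸ hbb2.symm))
  have a2e2 : a2 ≠ e2 := fun x => hae (third_unique h hca2 hca haa2.symm hce (x ▸ hee2.symm))
  have b2e2 : b2 ≠ e2 := fun x => hbe (third_unique h hcb2 hcb hbb2.symm hce (x ▸ hee2.symm))
  have hnbc : nb G c = {a, a2, b, b2, p, e2} := by
    refine (Finset.eq_of_subset_of_card_le (fun w hw => ?_) ?_).symm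
    · simp only [Finset.mem_insert, Finset.mem_singleton] at hw
      rcases hw with rfl | rfl | rfl | rfl | rfl | rfl <;> exact mem_nb.2 (by assumption)
    · rw [card_nb h, Finset.card_insert_of_notMem (by simp [haa2.ne, hab, b2a.symm, hae, e2a.symm]),
        Finset.card_insert_of_notMem (by simp [a2b, a2b2, a2e, a2e2]),
        Finset.card_insert_of_notMem (by simp [hbb2.ne, hbe, e2b.symm]),
        Finset.card_insert_of_notMem (by simp [b2e, b2e2]),
        Finset.card_pair hee2.ne]
  have force : ∀ {w x y z : X}, w ≠ c → ¬ G.Adj c w → ({x, y, z} : Finset X) ⊆ nb G c →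
      (∀ q ∈ nb G c, q ∉ ({x, y, z} : Finset X) → ¬ G.Adj w q) → G.Adj w x ∧ G.Adj w y ∧ G.Adj w z := by
    intro w x y z hwc nwc hxyz hex
    have hsub : cn G c w ⊆ {x, y, z} := fun q hq => by
      by_contra hq'
      exact hex q (mem_nb.2 (mem_cn.1 hq).1) hq' (mem_cn.1 hq).2
    have heq := Finset.eq_of_subset_of_card_le hsub
      (Finset.card_le_three.trans (le_of_eq ((card_cn h hwc.symm).trans (if_neg nwc)).symm))
    exact ⟨(mem_cn.1 (heq.ge (by simp : x ∈ _))).2, (mem_cn.1 (heq.ge (by simp : y ∈ _))).2,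
      (mem_cn.1 (heq.ge (by simp : z ∈ _))).2⟩
  -- the trace of the third point
  have hd'e2 : G.Adj d' e2 := by
    refine (force (x := a) (y := b) (z := e2) hd'c ncd' ?_ ?_).2.2
    · rw [hnbc]; intro q; simp only [Finset.mem_insert, Finset.mem_singleton]; tauto
    · intro q hq hq'
      rw [hnbc] at hq
      simp only [Finset.mem_insert, Finset.mem_singleton] at hq hq'
      rcases hq with rfl | rfl | rfl | rfl | rfl | rfl <;> try tauto
      · exact fun hh => hd'c (third_unique h haa2 had' hh.symm hca.symm hca2.symm)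
      · exact fun hh => hd'c (third_unique h hbb2 hbd' hh.symm hcb.symm hcb2.symm)
  -- third points on the edges at `d`
  obtain ⟨m, hdm, ham⟩ := exists_third h hda
  obtain ⟨hmc, ncm⟩ := third_out h hne hcd haT hdm ham
  obtain ⟨n, hdn, hbn⟩ := exists_third h hdb
  obtain ⟨hnc, ncn⟩ := third_out h hne hcd hbT hdn hbn
  have mne2 : G.Adj m a ∧ G.Adj m b2 ∧ G.Adj m e2 := by
    refine force hmc ncm ?_ ?_
    · rw [hnbc]; intro q; simp only [Finset.mem_insert, Finset.mem_singleton]; tauto
    · intro q hq hq'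
      rw [hnbc] at hq
      simp only [Finset.mem_insert, Finset.mem_singleton] at hq hq'
      rcases hq with rfl | rfl | rfl | rfl | rfl | rfl <;> try tauto
      · exact fun hh => hmc (third_unique h haa2 ham hh.symm hca.symm hca2.symm)
      · exact fun hh => hab (third_unique h hdm hda ham.symm hdb hh)
      · exact fun hh => hae (third_unique h hdm hda ham.symm hde hh)
  have nne2 : G.Adj n b ∧ G.Adj n a2 ∧ G.Adj n e2 := by
    refine force hnc ncn ?_ ?_
    · rw [hnbc]; intro q; simp only [Finset.mem_insert, Finset.mem_singleton]; tauto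
    · intro q hq hq'
      rw [hnbc] at hq
      simp only [Finset.mem_insert, Finset.mem_singleton] at hq hq'
      rcases hq with rfl | rfl | rfl | rfl | rfl | rfl <;> try tauto
      · exact fun hh => hab (third_unique h hdn hda hh hdb hbn.symm)
      · exact fun hh => hnc (third_unique h hbb2 hbn hh.symm hcb.symm hcb2.symm)
      · exact fun hh => hbe (third_unique h hdn hdb hbn.symm hde hh)
  obtain ⟨q, hmq, he2q⟩ := exists_third h mne2.2.2
  have ncq : ¬ G.Adj c q := fun hh => by
    have : q = p := third_unique h hce2 hh he2q hce hee2.symm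
    exact hae (third_unique h hdm hda ham.symm hde (this ▸ hmq))
  have hqc : q ≠ c := fun x => ncm (x ▸ hmq).symm
  have qne2 : G.Adj q e2 ∧ G.Adj q a2 ∧ G.Adj q b := by
    refine force hqc ncq ?_ ?_
    · rw [hnbc]; intro r; simp only [Finset.mem_insert, Finset.mem_singleton]; tauto
    · intro r hr hr'
      rw [hnbc] at hr
      simp only [Finset.mem_insert, Finset.mem_singleton] at hr hr'
      rcases hr with rfl | rfl | rfl | rfl | rfl | rfl <;> try tauto
      · exact fun hh => e2a (third_unique h hmq mne2.2.2 he2q.symm mne2.1 hh)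
      · exact fun hh => b2e2 (third_unique h hmq mne2.2.1 hh mne2.2.2 he2q.symm)
      · exact fun hh => hqc (third_unique h hee2 hh.symm he2q hce.symm hce2.symm)
  have hmn : ¬ G.Adj m n := fun hh => by
    have : a = n := third_unique h hdm hda ham.symm hdn hh
    exact nab (this ▸ hbn).symm
  have hbe2 : ¬ G.Adj b e2 := fun hh => b2e2 (third_unique h hcb hcb2 hbb2 hce2 hh)
  have hsub4 : ({c, d', n, q} : Finset X) ⊆ cn G b e2 := by
    intro w hw
    simp only [Finset.mem_insert, Finset.mem_singleton] at hw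
    rcases hw with rfl | rfl | rfl | rfl
    · exact mem_cn.2 ⟨hcb.symm, hce2.symm⟩
    · exact mem_cn.2 ⟨hbd', hd'e2.symm⟩
    · exact mem_cn.2 ⟨hbn, nne2.2.2.symm⟩
    · exact mem_cn.2 ⟨qne2.2.2.symm, he2q⟩
  have hna : ¬ G.Adj a n := fun hh => hab (third_unique h hdn hda hh.symm hdb hbn.symm)
  have hqa : ¬ G.Adj a q := fun hh => e2a (third_unique h hmq mne2.2.2 he2q.symm mne2.1 hh.symm)
  have hcard := Finset.card_le_card hsub4
  rw [Finset.card_insert_of_notMem (by simp [Ne.symm hd'c, Ne.symm hnc, Ne.symm hqc]),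
    Finset.card_insert_of_notMem (by
      simp only [Finset.mem_insert, Finset.mem_singleton, not_or]
      exact ⟨fun x => hna (x ▸ had'), fun x => hqa (x ▸ had')⟩),
    Finset.card_pair (fun x => hmn (by rw [x]; exact hmq)),
    card_cn h e2b.symm, if_neg hbe2] at hcard
  omega

/-- An independent five-set. -/
def Five (G : SimpleGraph X) (s : Finset X) : Prop :=
  s.card = 5 ∧ ∀ u ∈ s, ∀ v ∈ s, ¬ G.Adj u v

/-- A non-adjacent pair lies in exactly one independent five-set. -/
theorem exists_unique_five (h : G.IsSRGWith 15 6 1 3) {c d : X} (hne : c ≠ d) (hcd : ¬ G.Adj c d) :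
    ∃! s, Five G s ∧ c ∈ s ∧ d ∈ s := by
  obtain ⟨d', hd'c, hd'd, ncd', hd'T⟩ := exists_twin h hne hcd
  set T := cn G c d with hTdef
  have hT' : cn G c d' = T := by
    refine (Finset.eq_of_subset_of_card_le (fun p hp => ?_) ?_).symm
    · exact mem_cn.2 ⟨(mem_cn.1 hp).1, (hd'T p hp).symm⟩
    · rw [hTdef, card_cn h hd'c.symm, if_neg ncd', card_cn h hne, if_neg hcd]
  have hTc : T.card = 3 := (card_cn h hne).trans (if_neg hcd)
  set P := nb G d \ nb G c with hP
  set P' := nb G d' \ nb G c with hP'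
  have hint : ∀ {x : X}, x ≠ c → ¬ G.Adj c x → (nb G x \ nb G c).card = 3 := by
    intro x hx ncx
    have h1 := Finset.card_sdiff_add_card_inter (nb G x) (nb G c)
    have h2 := (card_cn h hx.symm).trans (if_neg ncx)
    rw [cn, Finset.inter_comm] at h2
    rw [h2, card_nb h] at h1
    omega
  -- members of `P'` are the third points over `T`
  have hthird : ∀ w ∈ P', ∃ a ∈ T, G.Adj a w := by
    have hex : ∀ a : T, ∃ w, G.Adj d' w ∧ G.Adj (a : X) w :=
      fun a => exists_third h (hd'T a a.2).symm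
    choose w hw using hex
    have hwP : ∀ a, w a ∈ P' := fun a => Finset.mem_sdiff.2 ⟨mem_nb.2 (hw a).1, fun hh =>
      (third_out h hd'c.symm ncd' (hT'.symm ▸ a.2) (hw a).1 (hw a).2).2 (mem_nb.1 hh)⟩
    have hinj : Function.Injective w := fun a b e => Subtype.ext (third_unique h (hw a).1
      (hd'T a a.2).symm (hw a).2.symm (hd'T b b.2).symm (e ▸ (hw b).2.symm))
    have heq : Finset.univ.image w = P' := by
      refine Finset.eq_of_subset_of_card_le (fun x hx => ?_) ?_
      · obtain ⟨a, -, rfl⟩ := Finset.mem_image.1 hx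
        exact hwP a
      · rw [hP', hint hd'c ncd', Finset.card_image_of_injective _ hinj, Finset.card_univ,
          Fintype.card_coe, hTc]
    intro x hx
    rw [← heq] at hx
    obtain ⟨a, -, rfl⟩ := Finset.mem_image.1 hx
    exact ⟨a, a.2, (hw a).2⟩
  have hPd : ∀ w ∈ P', ¬ G.Adj d w := by
    intro w hw hdw
    obtain ⟨a, ha, haw⟩ := hthird w hw
    exact hd'd (third_unique h haw (hd'T a ha) (mem_nb.1 (Finset.mem_sdiff.1 hw).1).symm
      (mem_cn.1 ha).2.symm hdw.symm)
  have hdd' : ¬ G.Adj d d' := fun hh => by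
    have := Finset.card_le_card (show T ⊆ cn G d d' from fun p hp =>
      mem_cn.2 ⟨(mem_cn.1 hp).2, (hd'T p hp).symm⟩)
    rw [hTc, card_cn h hd'd.symm, if_pos hh] at this
    omega
  have hdis : Disjoint P P' := Finset.disjoint_left.2 fun w hw hw' =>
    hPd w hw' (mem_nb.1 (Finset.mem_sdiff.1 hw).1)
  -- the non-neighbours of `c`
  have hout : ∀ g, g ≠ c → ¬ G.Adj c g → g = d ∨ g = d' ∨ G.Adj d g ∨ G.Adj d' g := by
    intro g hgc ncg
    by_contra hcon
    push Not at hcon
    obtain ⟨g1, g2, g3, g4⟩ := hcon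
    have hsub : insert g (insert d (insert d' (P ∪ P'))) ⊆ (Finset.univ.erase c) \ nb G c := by
      intro x hx
      simp only [Finset.mem_insert, Finset.mem_union] at hx
      simp only [Finset.mem_sdiff, Finset.mem_erase, Finset.mem_univ, and_true, mem_nb]
      rcases hx with rfl | rfl | rfl | hx | hx
      · exact ⟨hgc, ncg⟩
      · exact ⟨hne.symm, hcd⟩
      · exact ⟨hd'c, ncd'⟩
      · simp only [hP, Finset.mem_sdiff, mem_nb] at hx
        exact ⟨fun e => hcd (e ▸ hx.1).symm, hx.2⟩
      · simp only [hP', Finset.mem_sdiff, mem_nb] at hx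
        exact ⟨fun e => ncd' (e ▸ hx.1).symm, hx.2⟩
    have hle := Finset.card_le_card hsub
    rw [Finset.card_insert_of_notMem (by simp [hP, hP', mem_nb, g1, g2, g3, g4]),
      Finset.card_insert_of_notMem (by simp [hP, hP', mem_nb, hd'd.symm, show ¬ G.Adj d' d from fun e => hdd' e.symm]),
      Finset.card_insert_of_notMem (by simp [hP, hP', mem_nb, hdd']),
      Finset.card_union_of_disjoint hdis, hP, hP', hint hne.symm hcd, hint hd'c ncd',
      Finset.card_sdiff_of_subset (fun x hx => Finset.mem_erase.2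
        ⟨(mem_nb.1 hx).ne.symm, Finset.mem_univ x⟩),
      Finset.card_erase_of_mem (Finset.mem_univ c), Finset.card_univ, h.card, card_nb h] at hle
    omega
  set s₀ := insert c (insert d P') with hs₀
  have hP'mem : ∀ x ∈ P', G.Adj d' x ∧ ¬ G.Adj c x := fun x hx =>
    ⟨mem_nb.1 (Finset.mem_sdiff.1 hx).1, fun hh => (Finset.mem_sdiff.1 hx).2 (mem_nb.2 hh)⟩
  have hfive : Five G s₀ := by
    refine ⟨?_, ?_⟩
    · have hdP : d ∉ P' := fun hh => hdd' (hP'mem d hh).1.symm
      have hcP : c ∉ P' := fun hh => ncd' (hP'mem c hh).1.symm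
      rw [hs₀, Finset.card_insert_of_notMem (by simp [hne, hcP]),
        Finset.card_insert_of_notMem hdP, hP', hint hd'c ncd']
    · intro u hu v hv hadj
      simp only [hs₀, Finset.mem_insert] at hu hv
      rcases hu with rfl | rfl | hu <;> rcases hv with rfl | rfl | hv
      · exact hadj.ne rfl
      · exact hcd hadj
      · exact (hP'mem v hv).2 hadj
      · exact hcd hadj.symm
      · exact hadj.ne rfl
      · exact hPd v hv hadj
      · exact (hP'mem u hu).2 hadj.symm
      · exact hPd u hu hadj.symm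
      · obtain ⟨a, ha, hau⟩ := hthird u hu
        have e : a = v := third_unique h (hP'mem u hu).1 (hd'T a ha).symm hau.symm (hP'mem v hv).1 hadj
        exact (hP'mem v hv).2 (e ▸ (mem_cn.1 ha).1)
  refine ⟨s₀, ⟨hfive, by simp [hs₀], by simp [hs₀]⟩, ?_⟩
  rintro s ⟨hs, hcs, hds⟩
  have hd's : d' ∉ s := by
    intro hd's
    have hsub : s ⊆ {c, d, d'} := fun g hg => by
      simp only [Finset.mem_insert, Finset.mem_singleton]
      by_cases hgc : g = c
      · exact Or.inl hgc
      rcases hout g hgc (hs.2 c hcs g hg) with e | e | e | e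
      · exact Or.inr (Or.inl e)
      · exact Or.inr (Or.inr e)
      · exact absurd e (hs.2 d hds g hg)
      · exact absurd e (hs.2 d' hd's g hg)
    have := (Finset.card_le_card hsub).trans Finset.card_le_three
    rw [hs.1] at this
    omega
  refine Finset.eq_of_subset_of_card_le (fun g hg => ?_) (by rw [hs.1, hfive.1])
  simp only [hs₀, Finset.mem_insert]
  by_cases hgc : g = c
  · exact Or.inl hgc
  rcases hout g hgc (hs.2 c hcs g hg) with e | e | e | e
  · exact Or.inr (Or.inl e)
  · exact absurd (e ▸ hg) hd's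
  · exact absurd e (hs.2 d hds g hg)
  · exact Or.inr (Or.inr (Finset.mem_sdiff.2 ⟨mem_nb.2 e, fun hh => hs.2 c hcs g hg (mem_nb.1 hh)⟩))

/-- The independent five-sets. -/
noncomputable def fives (G : SimpleGraph X) : Finset (Finset X) :=
  open Classical in Finset.univ.filter (Five G)

omit [DecidableRel G.Adj] in
theorem mem_fives {s : Finset X} : s ∈ fives G ↔ Five G s := by
  classical
  simp [fives]

theorem card_through (h : G.IsSRGWith 15 6 1 3) (c : X) :
    ((fives G).filter fun s => c ∈ s).card = 2 := by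
  classical
  set A := (fives G).filter fun s => c ∈ s with hA
  set M := (Finset.univ.erase c) \ nb G c with hM
  have hcount := Finset.card_mul_eq_card_mul (s := A) (t := M) (m := 4) (n := 1)
    (r := fun s d => d ∈ s) ?_ ?_
  · have hMc : M.card = 8 := by
      rw [hM, Finset.card_sdiff_of_subset (fun x hx => Finset.mem_erase.2
        ⟨(mem_nb.1 hx).ne.symm, Finset.mem_univ x⟩),
        Finset.card_erase_of_mem (Finset.mem_univ c), Finset.card_univ, h.card, card_nb h]
    rw [hMc] at hcount
    omega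
  · intro s hs
    simp only [hA, Finset.mem_filter, mem_fives] at hs
    have he : Finset.bipartiteAbove (fun s d => d ∈ s) M s = s.erase c := by
      ext x
      simp only [Finset.bipartiteAbove, Finset.mem_filter, hM, Finset.mem_sdiff, Finset.mem_erase,
        Finset.mem_univ, and_true, mem_nb]
      exact ⟨fun hx => ⟨hx.1.1, hx.2⟩, fun hx => ⟨⟨hx.1, hs.1.2 c hs.2 x hx.2⟩, hx.2⟩⟩
    rw [he, Finset.card_erase_of_mem hs.2, hs.1.1]
  · intro d hd
    simp only [hM, Finset.mem_sdiff, Finset.mem_erase, Finset.mem_univ, and_true, mem_nb] at hd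
    obtain ⟨s, hs, hu⟩ := exists_unique_five h (Ne.symm hd.1) hd.2
    rw [Finset.card_eq_one]
    refine ⟨s, ?_⟩
    ext t
    simp only [Finset.bipartiteBelow, Finset.mem_filter, hA, mem_fives, Finset.mem_singleton]
    refine ⟨fun ht => hu t ⟨ht.1.1, ht.1.2, ht.2⟩, ?_⟩
    rintro rfl
    exact ⟨⟨hs.1, hs.2.1⟩, hs.2.2⟩

theorem card_fives (h : G.IsSRGWith 15 6 1 3) : (fives G).card = 6 := by
  classical
  have hcount := Finset.card_mul_eq_card_mul (s := fives G) (t := (Finset.univ : Finset X)) (m := 5)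
    (n := 2) (r := fun s d => d ∈ s) ?_ ?_
  · rw [Finset.card_univ, h.card] at hcount
    omega
  · intro s hs
    rw [show Finset.bipartiteAbove (fun s d => d ∈ s) Finset.univ s = s by
      ext x; simp [Finset.bipartiteAbove], (mem_fives.1 hs).1]
  · intro d _
    simpa [Finset.bipartiteBelow] using card_through h d

end CfsgLib.Steiner.SRG77.Kneser
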