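import Cfsg.Agent.Lib.Steiner.SRG77.Kneser
import Mathlib.Algebra.Order.Ring.Rat
import Mathlib.Tactic

/-!
A strongly regular graph (77, 16, 0, 4) seen from a vertex `x`: the 60 vertices at distance two fall into
15 classes of four forming the Kneser graph of pairs from six points; hence `x` lies in exactly six
cocliques of size 21 and shares exactly two of them with each vertex at distance two.
-/

set_option autoImplicit false

namespace CfsgLib.Steiner.SRG77

variable {V : Type*} [Fintype V] [DecidableEq V] {G : SimpleGraph V} [DecidableRel G.Adj]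

/-- The neighbourhood. -/
def nb (G : SimpleGraph V) [DecidableRel G.Adj] (u : V) : Finset V :=
  Finset.univ.filter fun v => G.Adj u v

theorem mem_nb {u v : V} : v ∈ nb G u ↔ G.Adj u v := by simp [nb]

theorem card_nb (h : G.IsSRGWith 77 16 0 4) (u : V) : (nb G u).card = 16 := by
  rw [← h.regular u, ← SimpleGraph.card_neighborFinset_eq_degree]
  congr 1
  ext v
  simp [mem_nb]

theorem card_cn (h : G.IsSRGWith 77 16 0 4) {u v : V} (hne : u ≠ v) :
    (nb G u ∩ nb G v).card = if G.Adj u v then 0 else 4 := by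
  have e : (nb G u ∩ nb G v).card = Fintype.card (G.commonNeighbors u v) := by
    rw [← Set.toFinset_card]
    congr 1
    ext w
    rw [Set.mem_toFinset, Finset.mem_inter, mem_nb, mem_nb]
    exact Iff.rfl
  rw [e]
  by_cases ha : G.Adj u v
  · rw [if_pos ha, h.of_adj u v ha]
  · rw [if_neg ha, h.of_not_adj hne ha]

theorem no_triangle (h : G.IsSRGWith 77 16 0 4) {a b c : V} (hab : G.Adj a b) (hac : G.Adj a c) :
    ¬ G.Adj b c := by
  intro hbc
  have := card_cn h hab.ne
  rw [if_pos hab, Finset.card_eq_zero] at this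
  exact Finset.notMem_empty c (this ▸ Finset.mem_inter.2 ⟨mem_nb.2 hac, mem_nb.2 hbc⟩)

/-- The operator `2 - A`. -/
def lap (G : SimpleGraph V) [DecidableRel G.Adj] (z : V → ℚ) (p : V) : ℚ :=
  2 * z p - ∑ q ∈ nb G p, z q

omit [DecidableEq V] in
theorem sum_mul_lap (z w : V → ℚ) : ∑ p, z p * lap G w p = ∑ p, lap G z p * w p := by
  simp only [lap, mul_sub, sub_mul, Finset.sum_sub_distrib]
  congr 1
  · exact Finset.sum_congr rfl fun p _ => by ring
  · simp only [Finset.mul_sum, Finset.sum_mul, nb, Finset.sum_filter]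
    rw [Finset.sum_comm]
    refine Finset.sum_congr rfl fun p _ => Finset.sum_congr rfl fun q _ => ?_
    by_cases ha : G.Adj p q
    · rw [if_pos ha, if_pos ha.symm]
    · rw [if_neg ha, if_neg (fun e => ha e.symm)]
      simp

theorem sum_lap (h : G.IsSRGWith 77 16 0 4) (z : V → ℚ) : ∑ p, lap G z p = -14 * ∑ p, z p := by
  have e := sum_mul_lap (G := G) (fun _ => (1 : ℚ)) z
  simp only [one_mul] at e
  rw [e, Finset.mul_sum]
  refine Finset.sum_congr rfl fun p _ => ?_
  have : lap G (fun _ => (1 : ℚ)) p = -14 := by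
    simp [lap, card_nb h]
    norm_num
  rw [this]

theorem lap_lap (h : G.IsSRGWith 77 16 0 4) (z : V → ℚ) (p : V) :
    lap G (lap G z) p = 8 * lap G z p + 4 * ∑ q, z q := by
  have hsq : ∑ q ∈ nb G p, ∑ r ∈ nb G q, z r =
      12 * z p + 4 * ∑ q, z q - 4 * ∑ q ∈ nb G p, z q := by
    have h1 : ∑ q ∈ nb G p, ∑ r ∈ nb G q, z r = ∑ r, ((nb G p ∩ nb G r).card : ℚ) * z r := by
      have : ∀ q, ∑ r ∈ nb G q, z r = ∑ r, if G.Adj q r then z r else 0 := fun q => by
        rw [nb, Finset.sum_filter]
      simp only [this]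
      rw [Finset.sum_comm]
      refine Finset.sum_congr rfl fun r _ => ?_
      rw [← Finset.sum_filter, Finset.sum_const, nsmul_eq_mul]
      congr 3
      ext q
      simp only [Finset.mem_filter, Finset.mem_inter, mem_nb]
      exact and_congr_right fun _ => G.adj_comm q r
    have h2 : ∀ r, ((nb G p ∩ nb G r).card : ℚ) * z r =
        (if p = r then 12 * z r else 0) + (4 * z r - if G.Adj p r then 4 * z r else 0) := by
      intro r
      by_cases hpr : p = r
      · subst hpr
        rw [Finset.inter_self, card_nb h, if_pos rfl, if_neg (G.irrefl)]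
        ring
      · rw [card_cn h hpr, if_neg hpr]
        by_cases ha : G.Adj p r
        · rw [if_pos ha, if_pos ha]; simp
        · rw [if_neg ha, if_neg ha]; simp
    rw [h1, Finset.sum_congr rfl fun r _ => h2 r, Finset.sum_add_distrib, Finset.sum_sub_distrib,
      Finset.sum_ite_eq, if_pos (Finset.mem_univ p), ← Finset.mul_sum, ← Finset.sum_filter, ← Finset.mul_sum]
    rw [nb]
    ring
  simp only [lap, Finset.sum_sub_distrib, ← Finset.mul_sum, hsq]
  ring

theorem dot_lap (h : G.IsSRGWith 77 16 0 4) (z w : V → ℚ) :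
    ∑ p, lap G z p * lap G w p = 8 * ∑ p, z p * lap G w p + 4 * ((∑ p, z p) * ∑ p, w p) := by
  rw [← sum_mul_lap]
  simp only [lap_lap h w, mul_add, Finset.sum_add_distrib]
  congr 1
  · rw [Finset.mul_sum]
    exact Finset.sum_congr rfl fun p _ => by ring
  · rw [← Finset.sum_mul]
    ring

variable (x : V)

/-- The vertices at distance two from `x`. -/
def far (G : SimpleGraph V) [DecidableRel G.Adj] (x : V) : Finset V := (Finset.univ.erase x) \ nb G x

theorem mem_far {p : V} : p ∈ far G x ↔ p ≠ x ∧ ¬ G.Adj x p := by simp [far, mem_nb]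

theorem card_far (h : G.IsSRGWith 77 16 0 4) : (far G x).card = 60 := by
  rw [far, Finset.card_sdiff_of_subset (fun p hp => Finset.mem_erase.2
    ⟨(mem_nb.1 hp).ne.symm, Finset.mem_univ p⟩), Finset.card_erase_of_mem (Finset.mem_univ x),
    Finset.card_univ, h.card, card_nb h]

/-- The quadrangle of neighbours of `x` adjacent to `u`. -/
def quad (G : SimpleGraph V) [DecidableRel G.Adj] (x u : V) : Finset V := nb G x ∩ nb G u

theorem mem_quad {u a : V} : a ∈ quad G x u ↔ G.Adj x a ∧ G.Adj u a := by simp [quad, mem_nb]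

theorem card_quad (h : G.IsSRGWith 77 16 0 4) {u : V} (hu : u ∈ far G x) : (quad G x u).card = 4 := by
  rw [mem_far] at hu
  rw [quad, card_cn h hu.1.symm, if_neg hu.2]

/-- The type of a pair: `0` same class, `1` meeting classes, `2` disjoint classes. -/
def typ (G : SimpleGraph V) [DecidableRel G.Adj] (x u p : V) : ℕ :=
  if p = u then 0 else (if G.Adj u p then 2 else 0) + (quad G x u ∩ quad G x p).card

theorem typ_comm (u p : V) : typ G x u p = typ G x p u := by
  unfold typ
  by_cases e : p = u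
  · subst e; rfl
  · rw [if_neg e, if_neg (Ne.symm e), Finset.inter_comm]
    by_cases a : G.Adj u p
    · rw [if_pos a, if_pos a.symm]
    · rw [if_neg a, if_neg (fun b => a b.symm)]

/-- The vector attached to a vertex at distance two. -/
def vec (G : SimpleGraph V) [DecidableRel G.Adj] (x u q : V) : ℚ :=
  (if q = u then 1 else 0) - (if q = x then 1 / 3 else 0) + (if q ∈ quad G x u then 1 / 2 else 0) -
    (if q ∈ nb G x then 1 / 6 else 0)

theorem sum_vec (h : G.IsSRGWith 77 16 0 4) {u : V} (hu : u ∈ far G x) : ∑ q, vec G x u q = 0 := by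
  simp only [vec, Finset.sum_sub_distrib, Finset.sum_add_distrib, Finset.sum_ite_eq', Finset.mem_univ,
    if_true, Finset.sum_ite_mem, Finset.univ_inter, Finset.sum_const, card_nb h, card_quad x h hu]
  norm_num

theorem lap_vec (h : G.IsSRGWith 77 16 0 4) {u : V} (hu : u ∈ far G x) (p : V) :
    lap G (vec G x u) p = if p ∈ far G x then 2 / 3 - (typ G x u p : ℚ) / 2 else 0 := by
  have hu' := (mem_far x).1 hu
  have hux : u ∉ quad G x u := fun e => G.irrefl ((mem_quad x).1 e).2
  have hun : u ∉ nb G x := fun e => hu'.2 (mem_nb.1 e)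
  have hxq : x ∉ quad G x u := fun e => G.irrefl ((mem_quad x).1 e).1
  have hxn : x ∉ nb G x := fun e => G.irrefl (mem_nb.1 e)
  have hsum : ∑ q ∈ nb G p, vec G x u q = (if G.Adj p u then 1 else 0) - (if G.Adj p x then 1 / 3 else 0) +
      ((nb G p ∩ quad G x u).card : ℚ) / 2 - ((nb G p ∩ nb G x).card : ℚ) / 6 := by
    simp only [vec, Finset.sum_sub_distrib, Finset.sum_add_distrib, Finset.sum_ite_eq', mem_nb,
      Finset.sum_ite_mem, Finset.sum_const, nsmul_eq_mul]
    rw [show ((∑ q ∈ nb G p, if G.Adj x q then (1 / 6 : ℚ) else 0)) = ((nb G p ∩ nb G x).card : ℚ) / 6 by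
      rw [← Finset.sum_filter, Finset.sum_const, nsmul_eq_mul,
        show (nb G p).filter (fun q => G.Adj x q) = nb G p ∩ nb G x by ext; simp [mem_nb]]
      ring]
    ring
  rw [lap, hsum]
  by_cases hpx : p = x
  · subst hpx
    rw [if_neg (fun e => ((mem_far p).1 e).1 rfl), if_neg (fun e => hu'.2 e), if_neg G.irrefl,
      Finset.inter_self, card_nb h,
      show nb G p ∩ quad G p u = quad G p u by rw [quad, ← Finset.inter_assoc, Finset.inter_self],
      card_quad p h hu]
    simp [vec, hu'.1.symm, hxq, hxn]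
    norm_num
  by_cases hpa : G.Adj x p
  · rw [if_neg (fun e => ((mem_far x).1 e).2 hpa), if_pos hpa.symm, card_cn h hpx, if_pos hpa.symm]
    have h0 : nb G p ∩ quad G x u = ∅ := by
      rw [Finset.eq_empty_iff_forall_notMem]
      intro q hq
      rw [Finset.mem_inter, mem_nb, mem_quad] at hq
      exact no_triangle h hpa hq.2.1 hq.1
    rw [h0]
    have hpu : p ≠ u := fun e => hu'.2 (e ▸ hpa)
    by_cases hup : G.Adj p u
    · simp [vec, hpx, hpu, mem_nb, hpa, mem_quad, hup, hup.symm]
      norm_num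
    · simp [vec, hpx, hpu, mem_nb, hpa, mem_quad, hup, show ¬ G.Adj u p from fun e => hup e.symm]
      norm_num
  have hxp : ¬ G.Adj p x := fun e => hpa e.symm
  rw [if_pos ((mem_far x).2 ⟨hpx, hpa⟩), if_neg hxp, card_cn h hpx, if_neg hxp]
  have hq : nb G p ∩ quad G x u = quad G x u ∩ quad G x p := by
    ext q
    simp only [Finset.mem_inter, mem_nb, mem_quad]
    tauto
  rw [hq]
  by_cases hpu : p = u
  · subst hpu
    rw [if_neg G.irrefl, Finset.inter_self, card_quad x h hu]
    simp [vec, typ, hpx, mem_nb, hpa, mem_quad]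
    norm_num
  · unfold typ
    rw [if_neg hpu]
    by_cases hup : G.Adj p u
    · simp [vec, hpx, hpu, mem_nb, hpa, mem_quad, hup, hup.symm]
      ring
    · simp [vec, hpx, hpu, mem_nb, hpa, mem_quad, hup, show ¬ G.Adj u p from fun e => hup e.symm]
      ring

theorem vec_dot (h : G.IsSRGWith 77 16 0 4) {u v : V} (hu : u ∈ far G x) (hv : v ∈ far G x) :
    ∑ p ∈ far G x, (2 / 3 - (typ G x u p : ℚ) / 2) * (2 / 3 - (typ G x v p : ℚ) / 2) =
      8 * (2 / 3 - (typ G x u v : ℚ) / 2) := by
  have e := dot_lap h (vec G x u) (vec G x v)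
  rw [sum_vec x h hu, sum_vec x h hv] at e
  simp only [lap_vec x h hu, lap_vec x h hv, ite_mul, zero_mul, mul_zero, add_zero, mul_ite,
    Finset.sum_ite_mem, Finset.univ_inter] at e
  have e2 : ∑ p ∈ far G x, vec G x u p * (2 / 3 - (typ G x v p : ℚ) / 2) =
      2 / 3 - (typ G x u v : ℚ) / 2 := by
    rw [Finset.sum_eq_single u]
    · simp [vec, ((mem_far x).1 hu).1, mem_nb, ((mem_far x).1 hu).2, mem_quad, typ_comm x v u]
    · intro p hp hne
      simp [vec, ((mem_far x).1 hp).1, mem_nb, ((mem_far x).1 hp).2, mem_quad, hne]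
    · exact fun hn => absurd hu hn
  rw [e2] at e
  simp only [Finset.inter_self] at e
  refine Eq.trans (Finset.sum_congr rfl fun p hp => ?_) e
  simp [hp]

theorem sum_typ (h : G.IsSRGWith 77 16 0 4) {u : V} (hu : u ∈ far G x) :
    ∑ p ∈ far G x, (typ G x u p : ℚ) = 80 := by
  have e := sum_lap h (vec G x u)
  simp only [sum_vec x h hu, mul_zero, lap_vec x h hu, Finset.sum_ite_mem, Finset.univ_inter,
    Finset.sum_sub_distrib, Finset.sum_const, card_far x h, ← Finset.sum_div, nsmul_eq_mul] at e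
  norm_num at e
  linarith

theorem sum_typ_mul (h : G.IsSRGWith 77 16 0 4) {u v : V} (hu : u ∈ far G x) (hv : v ∈ far G x) :
    ∑ p ∈ far G x, (typ G x u p : ℚ) * typ G x v p = 128 - 16 * typ G x u v := by
  have e := vec_dot x h hu hv
  have h1 : ∀ p, (2 / 3 - (typ G x u p : ℚ) / 2) * (2 / 3 - (typ G x v p : ℚ) / 2) =
      4 / 9 - (typ G x u p : ℚ) / 3 - (typ G x v p : ℚ) / 3 + (typ G x u p : ℚ) * typ G x v p / 4 :=
    fun p => by ring
  simp only [h1, Finset.sum_add_distrib, Finset.sum_sub_distrib, ← Finset.sum_div, sum_typ x h hu,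
    sum_typ x h hv, Finset.sum_const, card_far x h, nsmul_eq_mul] at e
  norm_num at e
  linarith

theorem typ_le_two (h : G.IsSRGWith 77 16 0 4) {u v : V} (hu : u ∈ far G x) (hv : v ∈ far G x) :
    typ G x u v ≤ 2 := by
  have h0 : 0 ≤ ∑ p ∈ far G x,
      ((2 / 3 - (typ G x u p : ℚ) / 2) + (2 / 3 - (typ G x v p : ℚ) / 2)) ^ 2 :=
    Finset.sum_nonneg fun p _ => sq_nonneg _
  have e : ∀ a b : ℚ, (a + b) ^ 2 = a * a + 2 * (a * b) + b * b := fun a b => by ring
  simp only [e, Finset.sum_add_distrib, ← Finset.mul_sum, vec_dot x h hu hu, vec_dot x h hu hv,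
    vec_dot x h hv hv] at h0
  have huu : typ G x u u = 0 := by simp [typ]
  have hvv : typ G x v v = 0 := by simp [typ]
  rw [huu, hvv] at h0
  have : (typ G x u v : ℚ) < 3 := by
    push_cast at h0
    linarith
  have h3 : typ G x u v < 3 := by exact_mod_cast this
  omega

theorem typ_congr (h : G.IsSRGWith 77 16 0 4) {u v : V} (hu : u ∈ far G x) (hv : v ∈ far G x)
    (h0 : typ G x u v = 0) {p : V} (hp : p ∈ far G x) : typ G x u p = typ G x v p := by
  have hz : ∑ p ∈ far G x, ((typ G x u p : ℚ) - typ G x v p) ^ 2 = 0 := by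
    have e : ∀ a b : ℚ, (a - b) ^ 2 = a * a - 2 * (a * b) + b * b := fun a b => by ring
    simp only [e, Finset.sum_add_distrib, Finset.sum_sub_distrib, ← Finset.mul_sum,
      sum_typ_mul x h hu hu, sum_typ_mul x h hu hv, sum_typ_mul x h hv hv, h0,
      show typ G x u u = 0 by simp [typ], show typ G x v v = 0 by simp [typ]]
    norm_num
  have := (Finset.sum_eq_zero_iff_of_nonneg fun q _ => sq_nonneg _).1 hz p hp
  rw [sq_eq_zero_iff, sub_eq_zero] at this
  exact_mod_cast this

theorem card_class (h : G.IsSRGWith 77 16 0 4) {u : V} (hu : u ∈ far G x) :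
    ((far G x).filter fun p => typ G x u p = 0).card = 4 := by
  have e : ∀ p ∈ far G x, (if typ G x u p = 0 then (2 : ℚ) else 0) =
      2 - 3 * (typ G x u p : ℚ) + (typ G x u p : ℚ) * typ G x u p := by
    intro p hp
    have := typ_le_two x h hu hp
    interval_cases typ G x u p <;> norm_num
  have hs := Finset.sum_congr rfl e
  rw [← Finset.sum_filter, Finset.sum_add_distrib, Finset.sum_sub_distrib, ← Finset.mul_sum,
    sum_typ x h hu, sum_typ_mul x h hu hu, Finset.sum_const, Finset.sum_const, card_far x h,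
    show typ G x u u = 0 by simp [typ]] at hs
  simp only [nsmul_eq_mul] at hs
  norm_num at hs
  have : (((far G x).filter fun p => typ G x u p = 0).card : ℚ) = 4 := by linarith
  exact_mod_cast this

theorem card_two (h : G.IsSRGWith 77 16 0 4) {u : V} (hu : u ∈ far G x) :
    ((far G x).filter fun p => typ G x u p = 2).card = 24 := by
  have e : ∀ p ∈ far G x, (if typ G x u p = 2 then (2 : ℚ) else 0) =
      (typ G x u p : ℚ) * typ G x u p - typ G x u p := by
    intro p hp
    have := typ_le_two x h hu hp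
    interval_cases typ G x u p <;> norm_num
  have hs := Finset.sum_congr rfl e
  rw [← Finset.sum_filter, Finset.sum_sub_distrib, sum_typ x h hu, sum_typ_mul x h hu hu,
    Finset.sum_const, show typ G x u u = 0 by simp [typ]] at hs
  simp only [nsmul_eq_mul] at hs
  norm_num at hs
  have : (((far G x).filter fun p => typ G x u p = 2).card : ℚ) = 24 := by linarith
  exact_mod_cast this

theorem card_two_two (h : G.IsSRGWith 77 16 0 4) {u v : V} (hu : u ∈ far G x) (hv : v ∈ far G x)
    (hne : typ G x u v ≠ 0) :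
    ((far G x).filter fun p => typ G x u p = 2 ∧ typ G x v p = 2).card + 8 * typ G x u v = 20 := by
  set k := typ G x u v with hk
  have e : ∀ p ∈ far G x, (if typ G x u p = 2 ∧ typ G x v p = 2 then (1 : ℚ) else 0) =
      (typ G x u p : ℚ) * typ G x v p - typ G x u p - typ G x v p + 1 +
        ((if typ G x u p = 0 then ((k : ℚ) - 1) else 0) + if typ G x v p = 0 then ((k : ℚ) - 1) else 0) := by
    intro p hp
    have h1 := typ_le_two x h hu hp
    have h2 := typ_le_two x h hv hp
    have a1 : typ G x u p = 0 → typ G x v p = k := fun e => by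
      rw [typ_comm x v p, ← typ_congr x h hu hp e hv]
    have a2 : typ G x v p = 0 → typ G x u p = k := fun e => by
      rw [typ_comm x u p, ← typ_congr x h hv hp e hu, typ_comm]
    by_cases c1 : typ G x u p = 0
    · have c2 := a1 c1
      rw [c1, c2]
      simp [hne]
    by_cases c2 : typ G x v p = 0
    · have c1' := a2 c2
      rw [c1', c2]
      simp [hne]
    obtain hu2 | hu2 : typ G x u p = 1 ∨ typ G x u p = 2 := by omega
    all_goals obtain hv2 | hv2 : typ G x v p = 1 ∨ typ G x v p = 2 := by omega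
    all_goals rw [hu2, hv2]; norm_num
  have hs := Finset.sum_congr rfl e
  rw [← Finset.sum_filter, Finset.sum_add_distrib, Finset.sum_add_distrib, Finset.sum_sub_distrib,
    Finset.sum_sub_distrib, Finset.sum_add_distrib, ← Finset.sum_filter, ← Finset.sum_filter,
    sum_typ x h hu, sum_typ x h hv, sum_typ_mul x h hu hv] at hs
  simp only [Finset.sum_const, card_far x h, card_class x h hu, card_class x h hv, nsmul_eq_mul,
    ← hk] at hs
  push_cast at hs
  have : (((far G x).filter fun p => typ G x u p = 2 ∧ typ G x v p = 2).card : ℚ) + 8 * (k : ℚ) = 20 := by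
    linarith
  exact_mod_cast this

theorem adj_typ {u v : V} (ha : G.Adj u v) : 2 ≤ typ G x u v := by
  simp [typ, ha.ne.symm, ha]

theorem exists_adj_of_two (h : G.IsSRGWith 77 16 0 4) {u v : V} (hu : u ∈ far G x) (hv : v ∈ far G x)
    (h2 : typ G x u v = 2) : ∃ w ∈ far G x, typ G x v w = 0 ∧ G.Adj u w := by
  by_contra hcon
  push Not at hcon
  set K := (far G x).filter fun p => typ G x v p = 0 with hK
  have hKc : K.card = 4 := card_class x h hv
  have hKf : ∀ p ∈ K, p ∈ far G x ∧ typ G x v p = 0 := fun p hp => Finset.mem_filter.1 hp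
  have hdisj : (K : Set V).PairwiseDisjoint fun p => quad G x u ∩ quad G x p := by
    intro p hp q hq hne
    have h0 : typ G x p q = 0 := by
      rw [← typ_congr x h hv (hKf p hp).1 (hKf p hp).2 (hKf q hq).1, (hKf q hq).2]
    have h0' : (quad G x p ∩ quad G x q).card = 0 := by
      have := h0
      simp only [typ, if_neg hne.symm] at this
      omega
    rw [Function.onFun, Finset.disjoint_left]
    intro a ha hb
    rw [Finset.card_eq_zero] at h0'
    exact Finset.notMem_empty a (h0' ▸ Finset.mem_inter.2 ⟨(Finset.mem_inter.1 ha).2, (Finset.mem_inter.1 hb).2⟩)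
  have hle := Finset.card_le_card (Finset.biUnion_subset.2 fun p (_ : p ∈ K) =>
    (Finset.inter_subset_left : quad G x u ∩ quad G x p ⊆ quad G x u))
  rw [Finset.card_biUnion hdisj, card_quad x h hu] at hle
  have hterm : ∀ p ∈ K, (quad G x u ∩ quad G x p).card = 2 := by
    intro p hp
    have e : typ G x u p = 2 := by
      rw [typ_comm, ← typ_congr x h hv (hKf p hp).1 (hKf p hp).2 hu, typ_comm, h2]
    have hpu : p ≠ u := fun e' => by rw [e'] at e; simp [typ] at e
    simpa [typ, hpu, hcon p (hKf p hp).1 (hKf p hp).2] using e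
  rw [Finset.sum_congr rfl hterm, Finset.sum_const, hKc, smul_eq_mul] at hle
  omega

/-- The classes. -/
def classSetoid (h : G.IsSRGWith 77 16 0 4) : Setoid {p // p ∈ far G x} where
  r u v := typ G x u.1 v.1 = 0
  iseqv :=
    ⟨fun u => by simp [typ], fun {u v} e => (typ_comm x v.1 u.1).trans e,
      fun {u v w} e e' => (typ_congr x h u.2 v.2 e w.2).trans e'⟩

/-- The fifteen classes. -/
abbrev Cls (h : G.IsSRGWith 77 16 0 4) : Type _ := Quotient (classSetoid x h)

/-- The class of a vertex. -/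
def cls (h : G.IsSRGWith 77 16 0 4) (u : {p // p ∈ far G x}) : Cls x h := Quotient.mk (classSetoid x h) u

theorem cls_eq_iff (h : G.IsSRGWith 77 16 0 4) {u v : {p // p ∈ far G x}} :
    cls x h u = cls x h v ↔ typ G x u.1 v.1 = 0 := Quotient.eq (r := classSetoid x h)

/-- The type of a pair of classes. -/
def ctyp (h : G.IsSRGWith 77 16 0 4) : Cls x h → Cls x h → ℕ :=
  Quotient.lift₂ (fun u v => typ G x u.1 v.1) fun a b a' b' ha hb => by
    show typ G x a.1 b.1 = typ G x a'.1 b'.1
    rw [typ_congr x h a.2 a'.2 ha b.2, typ_comm x a'.1 b.1, typ_congr x h b.2 b'.2 hb a'.2,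
      typ_comm x b'.1 a'.1]

theorem ctyp_cls (h : G.IsSRGWith 77 16 0 4) (u v : {p // p ∈ far G x}) :
    ctyp x h (cls x h u) (cls x h v) = typ G x u.1 v.1 := rfl

theorem cls_surj (h : G.IsSRGWith 77 16 0 4) (a : Cls x h) : ∃ u, cls x h u = a :=
  Quotient.inductionOn a fun u => ⟨u, rfl⟩

/-- Disjointness of classes. -/
def kneser (h : G.IsSRGWith 77 16 0 4) : SimpleGraph (Cls x h) where
  Adj a b := ctyp x h a b = 2
  symm := Std.Symm.mk fun a b e => by
    obtain ⟨u, rfl⟩ := cls_surj x h a
    obtain ⟨v, rfl⟩ := cls_surj x h b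
    rw [ctyp_cls, typ_comm, ← ctyp_cls x h u v]
    exact e
  loopless := Std.Irrefl.mk fun a e => by
    obtain ⟨u, rfl⟩ := cls_surj x h a
    rw [ctyp_cls] at e
    simp [typ] at e

theorem card_fiber (h : G.IsSRGWith 77 16 0 4) [DecidableEq (Cls x h)] (a : Cls x h) :
    (Finset.univ.filter fun u => cls x h u = a).card = 4 := by
  obtain ⟨v, rfl⟩ := cls_surj x h a
  rw [← card_class x h v.2, ← Finset.card_map ⟨Subtype.val, Subtype.val_injective⟩]
  congr 1
  ext p
  simp only [Finset.mem_map, Finset.mem_filter, Finset.mem_univ, true_and, Function.Embedding.coeFn_mk]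
  constructor
  · rintro ⟨u, hu, rfl⟩
    exact ⟨u.2, (typ_comm x v.1 u.1).trans ((cls_eq_iff x h).1 hu)⟩
  · rintro ⟨hp, h0⟩
    exact ⟨⟨p, hp⟩, (cls_eq_iff x h).2 ((typ_comm x p v.1).trans h0), rfl⟩

theorem card_preimage (h : G.IsSRGWith 77 16 0 4) [DecidableEq (Cls x h)] (s : Finset (Cls x h)) :
    ((Finset.univ.filter fun u => cls x h u ∈ s).map
      ⟨Subtype.val, Subtype.val_injective⟩ : Finset V).card = 4 * s.card := by
  rw [Finset.card_map, Finset.card_eq_sum_card_fiberwise
    (s := Finset.univ.filter fun u => cls x h u ∈ s) (f := cls x h) (t := s)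
    (fun u hu => Finset.mem_coe.2 (Finset.mem_filter.1 (Finset.mem_coe.1 hu)).2)]
  have hfib : ∀ a ∈ s, ((Finset.univ.filter fun u => cls x h u ∈ s).filter fun u => cls x h u = a).card = 4 := by
    intro a ha
    rw [← card_fiber x h a]
    congr 1
    ext u
    simp only [Finset.mem_filter, Finset.mem_univ, true_and]
    exact ⟨fun e => e.2, fun e => ⟨e ▸ ha, e⟩⟩
  rw [Finset.sum_congr rfl hfib, Finset.sum_const, smul_eq_mul, mul_comm]

theorem isSRG_kneser (h : G.IsSRGWith 77 16 0 4) [Fintype (Cls x h)] [DecidableRel (kneser x h).Adj] :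
    (kneser x h).IsSRGWith 15 6 1 3 := by
  classical
  have hpre : ∀ (P : Cls x h → Prop) [DecidablePred P] (Q : V → Prop) [DecidablePred Q],
      (∀ u : {p // p ∈ far G x}, P (cls x h u) ↔ Q u.1) →
      4 * (Finset.univ.filter P).card = ((far G x).filter Q).card := by
    intro P _ Q _ hPQ
    rw [← card_preimage x h]
    congr 1
    ext p
    simp only [Finset.mem_map, Finset.mem_filter, Finset.mem_univ, true_and, Function.Embedding.coeFn_mk]
    constructor
    · rintro ⟨u, hu, rfl⟩
      exact ⟨u.2, (hPQ u).1 hu⟩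
    · rintro ⟨hp, hq⟩
      exact ⟨⟨p, hp⟩, (hPQ ⟨p, hp⟩).2 hq, rfl⟩
  refine ⟨?_, ?_, ?_, ?_⟩
  · have := hpre (fun _ => True) (fun _ => True) (fun _ => Iff.rfl)
    rw [Finset.filter_true, Finset.filter_true, Finset.card_univ, card_far x h] at this
    omega
  · intro a
    obtain ⟨u, rfl⟩ := cls_surj x h a
    have := hpre (fun b => (kneser x h).Adj (cls x h u) b) (fun p => typ G x u.1 p = 2) (fun v => Iff.rfl)
    rw [card_two x h u.2] at this
    rw [← SimpleGraph.card_neighborFinset_eq_degree,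
      show (kneser x h).neighborFinset (cls x h u) = Finset.univ.filter fun b => (kneser x h).Adj (cls x h u) b by
        ext; simp]
    omega
  · intro a b hab
    obtain ⟨u, rfl⟩ := cls_surj x h a
    obtain ⟨v, rfl⟩ := cls_surj x h b
    have := hpre (fun c => (kneser x h).Adj (cls x h u) c ∧ (kneser x h).Adj (cls x h v) c)
      (fun p => typ G x u.1 p = 2 ∧ typ G x v.1 p = 2) (fun w => Iff.rfl)
    have hab' : typ G x u.1 v.1 = 2 := hab
    have h22 := card_two_two x h u.2 v.2 (by omega)
    rw [Fintype.card_of_subtype (Finset.univ.filter fun c =>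
      (kneser x h).Adj (cls x h u) c ∧ (kneser x h).Adj (cls x h v) c) (fun c => by
        simp only [Finset.mem_filter, Finset.mem_univ, true_and]; exact Iff.rfl)]
    omega
  · intro a b hne hab
    obtain ⟨u, rfl⟩ := cls_surj x h a
    obtain ⟨v, rfl⟩ := cls_surj x h b
    have := hpre (fun c => (kneser x h).Adj (cls x h u) c ∧ (kneser x h).Adj (cls x h v) c)
      (fun p => typ G x u.1 p = 2 ∧ typ G x v.1 p = 2) (fun w => Iff.rfl)
    have hab' : typ G x u.1 v.1 ≠ 2 := hab
    have h0 : typ G x u.1 v.1 ≠ 0 := fun e => hne ((cls_eq_iff x h).2 e)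
    have h22 := card_two_two x h u.2 v.2 h0
    have := typ_le_two x h u.2 v.2
    rw [Fintype.card_of_subtype (Finset.univ.filter fun c =>
      (kneser x h).Adj (cls x h u) c ∧ (kneser x h).Adj (cls x h v) c) (fun c => by
        simp only [Finset.mem_filter, Finset.mem_univ, true_and]; exact Iff.rfl)]
    omega

/-- A coclique of size 21. -/
def Coc (G : SimpleGraph V) (C : Finset V) : Prop := C.card = 21 ∧ ∀ u ∈ C, ∀ v ∈ C, ¬ G.Adj u v

/-- A coclique through `x` is a union of classes. -/
theorem coc_closed (h : G.IsSRGWith 77 16 0 4) {C : Finset V} (hC : Coc G C) (hx : x ∈ C) {u v : V}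
    (hu : u ∈ far G x) (hv : v ∈ far G x) (h0 : typ G x u v = 0) : u ∈ C ↔ v ∈ C := by
  set c : V → ℚ := fun p => (if p ∈ C then 1 else 0) - 3 / 11 with hc
  have hsum : ∑ p, c p = 0 := by
    simp [hc, Finset.sum_sub_distrib, hC.1, h.card]
    norm_num
  have hsq : ∑ p, c p * c p = 168 / 11 := by
    have e : ∀ p, c p * c p = (5 / 11) * (if p ∈ C then 1 else 0) + 9 / 121 := fun p => by
      simp only [hc]; split_ifs <;> norm_num
    rw [Finset.sum_congr rfl fun p _ => e p, Finset.sum_add_distrib, ← Finset.mul_sum]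
    simp [hC.1, h.card]
    norm_num
  have hnC : ∀ p ∈ C, ∑ q ∈ nb G p, (if q ∈ C then (1 : ℚ) else 0) = 0 := fun p hp =>
    Finset.sum_eq_zero fun q hq => if_neg fun e => hC.2 p hp q e (mem_nb.1 hq)
  have hQ : ∑ p, c p * lap G c p = 8 * ∑ p, c p * c p := by
    have e : ∀ p, c p * lap G c p =
        2 * (c p * c p) - (if p ∈ C then (1 : ℚ) else 0) * ∑ q ∈ nb G p, (if q ∈ C then (1 : ℚ) else 0) +
          48 / 11 * (if p ∈ C then (1 : ℚ) else 0) +
          3 / 11 * ∑ q ∈ nb G p, (if q ∈ C then (1 : ℚ) else 0) - 144 / 121 := by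
      intro p
      simp only [lap, hc, Finset.sum_sub_distrib, Finset.sum_const, card_nb h, nsmul_eq_mul]
      push_cast
      ring
    have hz : ∑ p, (if p ∈ C then (1 : ℚ) else 0) * ∑ q ∈ nb G p, (if q ∈ C then (1 : ℚ) else 0) = 0 :=
      Finset.sum_eq_zero fun p _ => by
        by_cases hp : p ∈ C
        · rw [hnC p hp, mul_zero]
        · rw [if_neg hp, zero_mul]
    have hout : ∑ p, ∑ q ∈ nb G p, (if q ∈ C then (1 : ℚ) else 0) = 336 := by
      simp only [nb, Finset.sum_filter]
      rw [Finset.sum_comm]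
      have : ∀ q, ∑ p, (if G.Adj p q then (if q ∈ C then (1 : ℚ) else 0) else 0) =
          16 * (if q ∈ C then (1 : ℚ) else 0) := fun q => by
        rw [← Finset.sum_filter, Finset.sum_const, nsmul_eq_mul,
          show (Finset.univ.filter fun p => G.Adj p q) = nb G q by ext; simp [mem_nb, G.adj_comm],
          card_nb h]
        norm_num
      rw [Finset.sum_congr rfl fun q _ => this q, ← Finset.mul_sum]
      simp [hC.1]
      norm_num
    rw [Finset.sum_congr rfl fun p _ => e p, Finset.sum_sub_distrib, Finset.sum_add_distrib,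
      Finset.sum_add_distrib, Finset.sum_sub_distrib, hz, ← Finset.mul_sum, ← Finset.mul_sum,
      ← Finset.mul_sum, hout, hsq]
    simp [hC.1, h.card]
    norm_num
  have heig : ∀ p, lap G c p = 8 * c p := by
    have hz : ∑ p, (lap G c p - 8 * c p) ^ 2 = 0 := by
      have e : ∀ p, (lap G c p - 8 * c p) ^ 2 =
          lap G c p * lap G c p - 16 * (c p * lap G c p) + 64 * (c p * c p) := fun p => by ring
      rw [Finset.sum_congr rfl fun p _ => e p, Finset.sum_add_distrib, Finset.sum_sub_distrib,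
        ← Finset.mul_sum, ← Finset.mul_sum, dot_lap h, hsum, hQ]
      ring
    intro p
    have := (Finset.sum_eq_zero_iff_of_nonneg fun q _ => sq_nonneg _).1 hz p (Finset.mem_univ p)
    rwa [sq_eq_zero_iff, sub_eq_zero] at this
  have hzero : ∑ p, c p * (lap G (vec G x u) p - lap G (vec G x v) p) = 0 :=
    Finset.sum_eq_zero fun p _ => by
      rw [lap_vec x h hu, lap_vec x h hv]
      by_cases hp : p ∈ far G x
      · rw [if_pos hp, if_pos hp, typ_congr x h hu hv h0 hp, sub_self, mul_zero]
      · rw [if_neg hp, if_neg hp, sub_self, mul_zero]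
  have hval : ∀ {w : V}, w ∈ far G x →
      ∑ p, c p * lap G (vec G x w) p = 8 * ((if w ∈ C then 1 else 0) - 1 / 3) := by
    intro w hw
    have e1 : ∑ p, c p * lap G (vec G x w) p = 8 * ∑ p, c p * vec G x w p := by
      rw [sum_mul_lap, Finset.mul_sum]
      exact Finset.sum_congr rfl fun p _ => by rw [heig]; ring
    have e2 : ∀ p, c p * vec G x w p =
        (if p ∈ C then (1 : ℚ) else 0) * vec G x w p - 3 / 11 * vec G x w p := fun p => by
      simp only [hc]; ring
    rw [e1, Finset.sum_congr rfl fun p _ => e2 p, Finset.sum_sub_distrib, ← Finset.mul_sum,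
      sum_vec x h hw, mul_zero, sub_zero]
    congr 1
    have e3 : ∀ p, (if p ∈ C then (1 : ℚ) else 0) * vec G x w p =
        (if p = w then (if w ∈ C then 1 else 0) else 0) - if p = x then 1 / 3 else 0 := by
      intro p
      by_cases hp : p ∈ C
      · have hn : p ∉ nb G x := fun e => hC.2 x hx p hp (mem_nb.1 e)
        have hq : p ∉ quad G x w := fun e => hn (Finset.mem_inter.1 e).1
        rw [if_pos hp, one_mul, vec, if_neg hn, if_neg hq, add_zero, sub_zero]
        by_cases e : p = w
        · subst e; rw [if_pos rfl, if_pos rfl, if_pos hp]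
        · rw [if_neg e, if_neg e]
      · have hpx : p ≠ x := fun e => hp (e ▸ hx)
        rw [if_neg hp, zero_mul, if_neg hpx, sub_zero]
        by_cases e : p = w
        · subst e; rw [if_pos rfl, if_neg hp]
        · rw [if_neg e]
    rw [Finset.sum_congr rfl fun p _ => e3 p, Finset.sum_sub_distrib, Finset.sum_ite_eq',
      Finset.sum_ite_eq', if_pos (Finset.mem_univ w), if_pos (Finset.mem_univ x)]
  simp only [mul_sub, Finset.sum_sub_distrib, hval hu, hval hv] at hzero
  by_cases a : u ∈ C <;> by_cases b : v ∈ C <;> simp [a, b] at hzero ⊢ <;> norm_num at hzero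

/-- The cocliques of size 21. -/
noncomputable def cocs (G : SimpleGraph V) : Finset (Finset V) :=
  open Classical in Finset.univ.filter (Coc G)

omit [DecidableEq V] [DecidableRel G.Adj] in
theorem mem_cocs {C : Finset V} : C ∈ cocs G ↔ Coc G C := by
  classical
  simp [cocs]

/-- The coclique of five classes. -/
noncomputable def lift (h : G.IsSRGWith 77 16 0 4) (s : Finset (Cls x h)) : Finset V :=
  open Classical in insert x ((Finset.univ.filter fun u => cls x h u ∈ s).map
    ⟨Subtype.val, Subtype.val_injective⟩)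

theorem mem_lift (h : G.IsSRGWith 77 16 0 4) {s : Finset (Cls x h)} {u : {p // p ∈ far G x}} :
    u.1 ∈ lift x h s ↔ cls x h u ∈ s := by
  classical
  simp [lift, ((mem_far x).1 u.2).1]

theorem lift_facts (h : G.IsSRGWith 77 16 0 4) [Fintype (Cls x h)] [DecidableRel (kneser x h).Adj] :
    (∀ s, Kneser.Five (kneser x h) s → Coc G (lift x h s) ∧ x ∈ lift x h s) ∧
    (∀ C, Coc G C → x ∈ C → ∃ s, Kneser.Five (kneser x h) s ∧ lift x h s = C) ∧
    Function.Injective (lift x h) := by
  classical
  refine ⟨fun s hs => ⟨⟨?_, ?_⟩, Finset.mem_insert_self _ _⟩, fun C hC hx => ?_, ?_⟩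
  · rw [lift, Finset.card_insert_of_notMem, card_preimage, hs.1]
    simp [mem_far]
  · intro a ha b hb hab
    rw [lift, Finset.mem_insert] at ha hb
    simp only [Finset.mem_map, Finset.mem_filter, Finset.mem_univ, true_and,
      Function.Embedding.coeFn_mk] at ha hb
    rcases ha with rfl | ⟨u, hu, rfl⟩ <;> rcases hb with rfl | ⟨v, hv, rfl⟩
    · exact G.irrefl hab
    · exact ((mem_far a).1 v.2).2 hab
    · exact ((mem_far b).1 u.2).2 hab.symm
    · have h2 : typ G x u.1 v.1 = 2 := le_antisymm (typ_le_two x h u.2 v.2) (adj_typ x hab)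
      exact hs.2 _ hu _ hv h2
  · set s := (Finset.univ.filter fun u : {p // p ∈ far G x} => u.1 ∈ C).image (cls x h) with hs
    have hmem : ∀ u : {p // p ∈ far G x}, cls x h u ∈ s ↔ u.1 ∈ C := by
      intro u
      simp only [hs, Finset.mem_image, Finset.mem_filter, Finset.mem_univ, true_and]
      exact ⟨fun ⟨v, hv, e⟩ => (coc_closed x h hC hx v.2 u.2 ((cls_eq_iff x h).1 e)).1 hv,
        fun hu => ⟨u, hu, rfl⟩⟩
    have hlift : lift x h s = C := by
      ext p
      by_cases hpx : p = x
      · subst hpx; exact iff_of_true (Finset.mem_insert_self _ _) hx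
      by_cases hpf : p ∈ far G x
      · exact (mem_lift x h (u := ⟨p, hpf⟩)).trans (hmem ⟨p, hpf⟩)
      · refine iff_of_false ?_ fun hp => hpf ((mem_far x).2 ⟨hpx, hC.2 x hx p hp⟩)
        simp [lift, hpx, hpf]
    refine ⟨s, ⟨?_, ?_⟩, hlift⟩
    · have hcard := congrArg Finset.card hlift
      rw [lift, Finset.card_insert_of_notMem (by simp [mem_far]), card_preimage, hC.1] at hcard
      omega
    · intro a ha b hb hab
      obtain ⟨u, rfl⟩ := cls_surj x h a
      obtain ⟨v, rfl⟩ := cls_surj x h b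
      obtain ⟨w, hw, hvw, huw⟩ := exists_adj_of_two x h u.2 v.2 hab
      exact hC.2 _ ((hmem u).1 ha) w ((coc_closed x h hC hx v.2 hw hvw).1 ((hmem v).1 hb)) huw
  · intro s t e
    ext a
    obtain ⟨u, rfl⟩ := cls_surj x h a
    rw [← mem_lift x h, ← mem_lift x h, e]

theorem card_cocs_through (h : G.IsSRGWith 77 16 0 4) :
    ((cocs G).filter fun C => x ∈ C).card = 6 := by
  classical
  obtain ⟨h1, h2, h3⟩ := lift_facts x h
  rw [← Kneser.card_fives (isSRG_kneser x h), ← Finset.card_image_of_injective _ h3]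
  congr 1
  ext C
  simp only [Finset.mem_filter, mem_cocs, Finset.mem_image, Kneser.mem_fives]
  exact ⟨fun hC => h2 C hC.1 hC.2, fun ⟨s, hs, e⟩ => e ▸ h1 s hs⟩

theorem card_cocs_pair (h : G.IsSRGWith 77 16 0 4) {u : V} (hne : u ≠ x) (hna : ¬ G.Adj x u) :
    ((cocs G).filter fun C => x ∈ C ∧ u ∈ C).card = 2 := by
  classical
  obtain ⟨h1, h2, h3⟩ := lift_facts x h
  have hu : u ∈ far G x := (mem_far x).2 ⟨hne, hna⟩
  rw [← Kneser.card_through (isSRG_kneser x h) (cls x h ⟨u, hu⟩), ← Finset.card_image_of_injective _ h3]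
  congr 1
  ext C
  simp only [Finset.mem_filter, mem_cocs, Finset.mem_image, Kneser.mem_fives]
  constructor
  · rintro ⟨hC, hx, hu'⟩
    obtain ⟨s, hs, rfl⟩ := h2 C hC hx
    exact ⟨s, ⟨hs, (mem_lift x h).1 hu'⟩, rfl⟩
  · rintro ⟨s, ⟨hs, hus⟩, rfl⟩
    exact ⟨(h1 s hs).1, (h1 s hs).2, (mem_lift x h (u := ⟨u, hu⟩)).2 hus⟩

end CfsgLib.Steiner.SRG77
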