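import Cfsg.Agent.Lib.Steiner.SRG77.Local
import Cfsg.Agent.Lib.Golay.DerivedPair

/-!
A strongly regular graph (77, 16, 0, 4) is the disjointness graph of the blocks of an S(3,6,22), hence unique.
-/

set_option autoImplicit false

namespace CfsgLib.Steiner.SRG77

open Cfsg

variable {V : Type*} [Fintype V] [DecidableEq V] {G : SimpleGraph V} [DecidableRel G.Adj]

/-- The points: cocliques of size 21. -/
abbrev Pt (G : SimpleGraph V) := {C : Finset V // C ∈ cocs G}

/-- The block of a vertex: the cocliques containing it. -/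
noncomputable def blk (G : SimpleGraph V) (v : V) : Finset (Pt G) :=
  open Classical in Finset.univ.filter fun C => v ∈ C.1

omit [DecidableRel G.Adj] in
theorem mem_blk {v : V} {C : Pt G} : C ∈ blk G v ↔ v ∈ C.1 := by
  classical
  simp [blk]

theorem card_blk (h : G.IsSRGWith 77 16 0 4) (v : V) : (blk G v).card = 6 := by
  rw [← card_cocs_through v h, ← Finset.card_map ⟨Subtype.val, Subtype.val_injective⟩]
  congr 1
  ext C
  simp [mem_blk, and_comm]

theorem card_common (h : G.IsSRGWith 77 16 0 4) {v w : V} (hne : v ≠ w) :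
    (blk G v ∩ blk G w).card = if G.Adj v w then 0 else 2 := by
  by_cases ha : G.Adj v w
  · rw [if_pos ha, Finset.card_eq_zero, Finset.eq_empty_iff_forall_notMem]
    intro C hC
    rw [Finset.mem_inter, mem_blk, mem_blk] at hC
    exact (mem_cocs.1 C.2).2 v hC.1 w hC.2 ha
  · rw [if_neg ha, ← card_cocs_pair v h hne.symm ha, ← Finset.card_map ⟨Subtype.val, Subtype.val_injective⟩]
    congr 1
    ext C
    simp [mem_blk]
    tauto

theorem card_pt (h : G.IsSRGWith 77 16 0 4) : Fintype.card (Pt G) = 22 := by
  rw [Fintype.card_coe]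
  have hc := Finset.card_mul_eq_card_mul (s := cocs G) (t := (Finset.univ : Finset V)) (m := 21) (n := 6)
    (r := fun C v => v ∈ C) ?_ ?_
  · rw [Finset.card_univ, h.card] at hc
    omega
  · intro C hC
    rw [show Finset.bipartiteAbove (fun C v => v ∈ C) Finset.univ C = C by
      ext v; simp [Finset.bipartiteAbove], (mem_cocs.1 hC).1]
  · intro v _
    simpa [Finset.bipartiteBelow] using card_cocs_through v h

theorem blk_injective (h : G.IsSRGWith 77 16 0 4) : Function.Injective (blk G) := by
  intro v w e
  by_contra hne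
  have := card_common h hne
  rw [e, Finset.inter_self, card_blk h] at this
  split_ifs at this <;> omega

theorem isSteiner (h : G.IsSRGWith 77 16 0 4) : IsSteinerSystem 3 6 (Set.range (blk G)) := by
  classical
  refine ⟨?_, fun s hs => ?_⟩
  · rintro _ ⟨v, rfl⟩; exact card_blk h v
  have hdis : ((Finset.univ : Finset V) : Set V).PairwiseDisjoint fun v => (blk G v).powersetCard 3 := by
    intro v _ w _ hne
    rw [Function.onFun, Finset.disjoint_left]
    intro t ht ht'
    rw [Finset.mem_powersetCard] at ht ht'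
    have := Finset.card_le_card (Finset.subset_inter ht.1 ht'.1)
    rw [ht.2, card_common h hne] at this
    split_ifs at this <;> omega
  have heq : Finset.univ.biUnion (fun v => (blk G v).powersetCard 3) =
      (Finset.univ : Finset (Pt G)).powersetCard 3 := by
    refine Finset.eq_of_subset_of_card_le (fun t ht => ?_) ?_
    · obtain ⟨v, -, hv⟩ := Finset.mem_biUnion.1 ht
      exact Finset.mem_powersetCard.2 ⟨Finset.subset_univ _, (Finset.mem_powersetCard.1 hv).2⟩
    · rw [Finset.card_biUnion hdis, Finset.card_powersetCard, Finset.card_univ, card_pt h]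
      simp only [Finset.card_powersetCard, card_blk h, Finset.sum_const, Finset.card_univ, h.card]
      decide
  have hs' : s ∈ (Finset.univ : Finset (Pt G)).powersetCard 3 :=
    Finset.mem_powersetCard.2 ⟨Finset.subset_univ _, hs⟩
  rw [← heq, Finset.mem_biUnion] at hs'
  obtain ⟨v, -, hv⟩ := hs'
  refine ⟨blk G v, ⟨⟨v, rfl⟩, (Finset.mem_powersetCard.1 hv).1⟩, ?_⟩
  rintro _ ⟨⟨w, rfl⟩, hw⟩
  by_contra hne
  exact Finset.disjoint_left.1 (hdis (Finset.mem_coe.2 (Finset.mem_univ w)) (Finset.mem_coe.2 (Finset.mem_univ v))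
    (fun e => hne (by rw [e]))) (Finset.mem_powersetCard.2 ⟨hw, hs⟩) hv

theorem adj_iff (h : G.IsSRGWith 77 16 0 4) (v w : V) : G.Adj v w ↔ Disjoint (blk G v) (blk G w) := by
  rw [Finset.disjoint_iff_inter_eq_empty, ← Finset.card_eq_zero]
  by_cases hne : v = w
  · subst hne
    simp [card_blk h]
  · rw [card_common h hne]
    split_ifs with ha <;> simp [ha]

/-- Uniqueness. -/
theorem nonempty_iso {W : Type*} [Fintype W] {H : SimpleGraph W} [DecidableRel H.Adj]
    (hG : G.IsSRGWith 77 16 0 4) (hH : H.IsSRGWith 77 16 0 4) : Nonempty (G ≃g H) := by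
  classical
  obtain ⟨e, he⟩ := Golay.DerivedPair.setSystemIso (card_pt hG) (card_pt hH) (isSteiner hG) (isSteiner hH)
  have hex : ∀ v, ∃ w, blk H w = (blk G v).image e := fun v => by
    have : (blk G v).image e ∈ Set.range (blk H) := he ▸ ⟨blk G v, ⟨v, rfl⟩, rfl⟩
    exact this
  choose f hf using hex
  have hinj : Function.Injective f := fun v v' ev => blk_injective hG
    (Finset.image_injective e.injective (by rw [← hf, ← hf, ev]))
  have hbij : Function.Bijective f :=
    (Fintype.bijective_iff_injective_and_card f).2 ⟨hinj, by rw [hG.card, hH.card]⟩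
  refine ⟨⟨Equiv.ofBijective f hbij, fun {v w} => ?_⟩⟩
  rw [Equiv.ofBijective_apply, Equiv.ofBijective_apply, adj_iff hH, adj_iff hG, hf, hf,
    Finset.disjoint_image e.injective]

end CfsgLib.Steiner.SRG77
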